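import Groth.Agent.Lib.ImgBorel19.Main
import Groth.Agent.Lib.GrpClass19.Geom
import Groth.Agent.Lib.AntiAffine.Image
import Groth.Agent.Lib.GrpExt19.ConstSplit
import Groth.Agent.Lib.AffMono14.Basic
import Groth.Agent.Lib.GrpSchField.GrpDim
import Groth.Agent.Lib.SubPre14.Basic
import Groth.Agent.Lib.Affine25.FiniteSurjective
import Groth.Agent.Lib.AlgSp.Dim
import Groth.Agent.Lib.Flag27.Preimage

/-!
# Smooth connected solvable subgroups under isogenies
-/

universe u
set_option autoImplicit false
set_option linter.style.haveILetI false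
set_option backward.isDefEq.respectTransparency false
open CategoryTheory CategoryTheory.Limits MonoidalCategory CartesianMonoidalCategory MonObj GrpObj
open AlgebraicGeometry TopologicalSpace
open scoped commutatorElement

namespace GrothLib.IsogSub19

open GrothLib.GrpClass19

variable {K : Type u} [Field K] [IsAlgClosed K]

/-- A group with irreducible underlying space and a finite derived term of points is solvable. -/
theorem isSolvable_of_finite (U : Over (Spec (CommRingCat.of K))) [GrpObj U] [LocallyOfFiniteType U.hom]
    [IrreducibleSpace U.left] (n : ℕ)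
    (hfin : ((derivedSeries (Over.mk (𝟙 (Spec (CommRingCat.of K))) ⟶ U) n : Subgroup _) :
      Set (Over.mk (𝟙 (Spec (CommRingCat.of K))) ⟶ U)).Finite) :
    IsSolvable (Over.mk (𝟙 (Spec (CommRingCat.of K))) ⟶ U) := by
  let P := Over.mk (𝟙 (Spec (CommRingCat.of K)))
  haveI : JacobsonSpace U.left := LocallyOfFiniteType.jacobsonSpace (Y := Spec _) U.hom
  letI top : TopologicalSpace (P ⟶ U) := TopologicalSpace.induced ptLoc inferInstance
  have hind : Topology.IsInducing (ptLoc (K := K) (H := U)) := ⟨rfl⟩
  have hcont : ∀ (φ : U ⟶ U) (f : (P ⟶ U) → (P ⟶ U)), (∀ x, f x = x ≫ φ) → Continuous f := fun φ f hf => by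
    rw [hind.continuous_iff]
    have : ptLoc ∘ f = φ.left.base ∘ ptLoc := funext fun x => by
      rw [Function.comp_apply, hf, ptLoc_comp]; rfl
    rw [this]
    exact φ.left.continuous.comp hind.continuous
  let cst : (P ⟶ U) → (U ⟶ U) := fun g => Over.homMk (U.hom ≫ g.left) (by
    rw [Category.assoc, Over.w g]; exact Category.comp_id _)
  have hcst : ∀ (g x : P ⟶ U), x ≫ cst g = g := fun g x => Over.OverMorphism.ext (by
    show x.left ≫ U.hom ≫ g.left = g.left
    rw [Over.w_assoc x]
    exact Category.id_comp _)
  have hclosed : ∀ x : P ⟶ U, IsClosed ({x} : Set (P ⟶ U)) := fun x => by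
    rw [← (ptLoc_injective (K := K) (H := U)).preimage_image ({x} : Set (P ⟶ U)), Set.image_singleton]
    refine IsClosed.preimage hind.continuous ?_
    have : ptLoc x ∈ closedPoints U.left := (range_ptLoc (K := K) (H := U)) ▸ Set.mem_range_self _
    exact this
  have hsc : SepCont (P ⟶ U) :=
    { inv := hcont ((𝟙 U)⁻¹) _ fun x => by rw [GrpObj.comp_inv, Category.comp_id]
      mul_left := fun g => hcont (cst g * 𝟙 U) _ fun x => by rw [MonObj.comp_mul, hcst, Category.comp_id]
      mul_right := fun g => hcont (𝟙 U * cst g) _ fun x => by rw [MonObj.comp_mul, hcst, Category.comp_id]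
      comm := fun g => hcont (cst g * 𝟙 U * (cst g)⁻¹ * (𝟙 U)⁻¹) _ fun x => by
        simp only [commutatorElement_def, MonObj.comp_mul, GrpObj.comp_inv, hcst, Category.comp_id]
      isClosed_one := hclosed 1 }
  have huniv : IsPreirreducible (Set.univ : Set (P ⟶ U)) := by
    intro A B hA hB ⟨a, _, haA⟩ ⟨b, _, hbB⟩
    obtain ⟨A', hA', rfl⟩ := hind.isOpen_iff.mp hA
    obtain ⟨B', hB', rfl⟩ := hind.isOpen_iff.mp hB
    obtain ⟨w, hw, hwc⟩ := nonempty_inter_closedPoints (Z := A' ∩ B')
      (nonempty_preirreducible_inter hA' hB' ⟨_, haA⟩ ⟨_, hbB⟩) (hA'.inter hB').isLocallyClosed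
    rw [← range_ptLoc] at hwc
    obtain ⟨x, rfl⟩ := hwc
    exact ⟨x, trivial, hw⟩
  have hirr : ∀ m, IsPreirreducible ((derivedSeries (P ⟶ U) m : Subgroup _) : Set (P ⟶ U)) := by
    intro m
    induction m with
    | zero => rw [derivedSeries_zero]; exact huniv
    | succ m ih => rw [derivedSeries_succ]; exact isPreirreducible_commutator hsc _ _ ih
  refine ⟨⟨n, eq_bot_iff.mpr fun x hx => Subgroup.mem_bot.mpr ?_⟩⟩
  by_contra hne
  rcases isPreirreducible_iff_isClosed_union_isClosed.mp (hirr n) {1}
      (((derivedSeries (P ⟶ U) n : Subgroup _) : Set (P ⟶ U)) \ {1}) (hclosed 1)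
      ((hfin.subset Set.sdiff_subset).isClosed_biUnion (f := fun y => {y}) (fun y _ => hclosed y) |> fun h => by
        simpa only [Set.biUnion_of_singleton] using h)
      (fun y hy => (em (y = 1)).imp id fun h => ⟨hy, h⟩) with h | h
  · exact hne (h hx)
  · exact (h (one_mem _)).2 rfl

variable {G H : Over (Spec (CommRingCat.of K))} [GrpObj G] [GrpObj H] [LocallyOfFiniteType G.hom]
  [LocallyOfFiniteType H.hom] [QuasiCompact G.hom] [QuasiCompact H.hom]
  (f : G ⟶ H) [IsMonHom f] [IsFinite f.left]

include f in
/-- The image of a smooth connected solvable subgroup. -/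
theorem exists_image (U : Over (Spec (CommRingCat.of K))) [GrpObj U] (i : U ⟶ G) [IsMonHom i]
    [IsClosedImmersion i.left] [Smooth U.hom] [ConnectedSpace U.left] (hs : Red.IsSolvableGrp U) :
    ∃ (V : Over (Spec (CommRingCat.of K))) (_ : GrpObj V) (j : V ⟶ H), IsMonHom j ∧ IsClosedImmersion j.left ∧
      Smooth V.hom ∧ ConnectedSpace V.left ∧ Red.IsSolvableGrp V ∧
      topologicalKrullDim U.left ≤ topologicalKrullDim V.left ∧ (IsAffine U.left → IsAffine V.left) := by
  haveI : IsFinite (i ≫ f).left := by rw [Over.comp_left]; infer_instance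
  obtain ⟨M, _, j, _, _, g, hgj, hgd, hgq⟩ := GrothLib.AntiAffine.exists_image_subgroup (i ≫ f)
  haveI := hgd; haveI := hgq
  haveI : IsReduced U.left := GrothLib.RedSmooth.isReduced_of_smooth U.hom
  haveI : IsReduced M.left := IsSchemeTheoreticallyDominant.isReduced g.left
  haveI : IsFinite g.left := by
    haveI : IsFinite (g.left ≫ j.left) := by rw [← Over.comp_left, hgj]; infer_instance
    exact IsFinite.of_comp g.left j.left
  haveI : Surjective g.left := ⟨fun y => by
    have h1 := g.left.denseRange.closure_eq
    rw [(g.left.isClosedMap.isClosed_range).closure_eq] at h1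
    exact Set.range_eq_univ.mp h1 y⟩
  haveI : LocallyOfFiniteType M.hom := by rw [← Over.w j]; infer_instance
  haveI : QuasiCompact M.hom := by rw [← Over.w j]; infer_instance
  haveI : IsSeparated M.hom := GrothLib.GrpSchField.isSeparated M
  haveI hsm : Smooth M.hom := GrothLib.ImgBorel19.smooth_of_surjective_hom g
  haveI : ConnectedSpace M.left := g.left.surjective.connectedSpace g.left.continuous
  haveI : IsMonHom g := by
    haveI : Mono j.left := IsPreimmersion.instMonoScheme j.left
    haveI : Mono j := Over.mono_of_mono_left j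
    haveI : IsMonHom (g ≫ j) := by rw [hgj]; infer_instance
    exact GrothLib.Flag27.isMonHom_of_comp g j
  refine ⟨M, inferInstance, j, inferInstance, inferInstance, hsm, inferInstance,
    GrothLib.Flag27.isSolvableGrp_of_points
      (GrothLib.Flag27.isSolvable_of_surjective g (GrothLib.Flag27.isSolvable_points hs)),
    GrothLib.AlgSp.topologicalKrullDim_le_of_isIntegralHom g.left, fun hU => ?_⟩
  haveI := hU
  haveI : AlgebraicGeometry.IsNoetherian M.left := by
    haveI : IsLocallyNoetherian M.left := LocallyOfFiniteType.isLocallyNoetherian (Y := Spec _) M.hom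
    haveI : CompactSpace M.left := (quasiCompact_iff_compactSpace M.hom).mp inferInstance
    exact {}
  exact GrothLib.Affine25.isAffine_of_finite_surjective g.left

/-- A smooth connected solvable subgroup of the target is dominated. -/
theorem exists_preimage [Surjective f.left] (V : Over (Spec (CommRingCat.of K))) [GrpObj V] (j : V ⟶ H)
    [IsMonHom j] [IsClosedImmersion j.left] [Smooth V.hom] [ConnectedSpace V.left] (hs : Red.IsSolvableGrp V) :
    ∃ (U : Over (Spec (CommRingCat.of K))) (_ : GrpObj U) (i : U ⟶ G), IsMonHom i ∧ IsClosedImmersion i.left ∧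
      Smooth U.hom ∧ ConnectedSpace U.left ∧ Red.IsSolvableGrp U ∧
      topologicalKrullDim V.left ≤ topologicalKrullDim U.left ∧ (IsAffine V.left → IsAffine U.left) := by
  -- the preimage
  let P : Over (Spec (CommRingCat.of K)) := Over.mk (pullback.fst f.left j.left ≫ G.hom)
  let a : P ⟶ G := Over.homMk (pullback.fst f.left j.left) rfl
  let b : P ⟶ V := Over.homMk (pullback.snd f.left j.left) (by
    show pullback.snd f.left j.left ≫ V.hom = pullback.fst f.left j.left ≫ G.hom
    rw [← Over.w j, ← pullback.condition_assoc, Over.w f])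
  have hsqL : IsPullback a.left b.left f.left j.left := IsPullback.of_hasPullback f.left j.left
  have hsq : IsPullback a b f j := IsPullback.of_map (Over.forget _) (Over.OverMorphism.ext hsqL.w) hsqL
  haveI : IsClosedImmersion a.left := inferInstanceAs (IsClosedImmersion (pullback.fst f.left j.left))
  haveI : IsFinite b.left := inferInstanceAs (IsFinite (pullback.snd f.left j.left))
  haveI : Surjective b.left := inferInstanceAs (Surjective (pullback.snd f.left j.left))
  haveI : Mono j.left := IsPreimmersion.instMonoScheme j.left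
  haveI : Mono j := Over.mono_of_mono_left j
  obtain ⟨hP, hb, ha⟩ := GrothLib.SubPre14.exists_grpObj_pullback f j b a hsq.flip
  haveI := ha; haveI := hb
  -- its reduced neutral component
  obtain ⟨R, _, r, _, _, _, _⟩ := GrothLib.AffMono14.exists_red P
  haveI : LocallyOfFiniteType R.hom := by
    haveI : LocallyOfFiniteType P.hom := inferInstanceAs (LocallyOfFiniteType (pullback.fst f.left j.left ≫ G.hom))
    rw [← Over.w r]; infer_instance
  obtain ⟨U, _, c, _, _, hUc, hUi, _⟩ := GrothLib.GrpExt19.exists_neutral R
  haveI := hUi; haveI := hUc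
  haveI : IsReduced U.left := isReduced_of_isOpenImmersion c.left
  haveI : GeometricallyReduced U.hom := GrothLib.UnitProd.geometricallyReduced_of_isReduced U.hom
  haveI : Smooth U.hom := by
    haveI : GrpObj (Over.mk U.hom) := inferInstanceAs (GrpObj U)
    exact smooth_of_grpObj U.hom
  let U' : Over (Spec (CommRingCat.of K)) := U
  -- the neutral component is closed
  haveI : QuasiCompact U.hom := (quasiCompact_iff_compactSpace U.hom).mpr inferInstance
  haveI : QuasiCompact c.left := by
    haveI : QuasiCompact (c.left ≫ R.hom) := by rw [Over.w c]; infer_instance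
    haveI : IsSeparated R.hom := GrothLib.GrpSchField.isSeparated R
    exact QuasiCompact.of_comp c.left R.hom
  have hUrange : IsClosed (Set.range c.left.base) := GrothLib.Neutral.isClosed_range_hom (u := c)
  haveI : IsClosedImmersion c.left := IsClosedImmersion.of_isPreimmersion _ hUrange
  haveI : IsClosedImmersion (c ≫ r ≫ a).left := by rw [Over.comp_left, Over.comp_left]; infer_instance
  haveI : IrreducibleSpace U.left := hUi
  haveI : ConnectedSpace U.left := inferInstance
  -- dimensions
  have hcomp : Set.range c.left.base ∈ irreducibleComponents R.left := by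
    haveI : IsOpenImmersion c.left := inferInstance
    have h1 : IsIrreducible (Set.range c.left.base) := by
      rw [← Set.image_univ]
      exact (IrreducibleSpace.isIrreducible_univ U.left).image _ c.left.continuous.continuousOn
    refine ⟨h1, fun Z hZ hle => ?_⟩
    have hsub := subset_closure_inter_of_isPreirreducible_of_isOpen hZ.2 c.left.isOpenEmbedding.isOpen_range
      (h1.nonempty.mono fun x hx => ⟨hle hx, hx⟩)
    exact hsub.trans (closure_minimal Set.inter_subset_right hUrange)
  have hdU : topologicalKrullDim V.left ≤ topologicalKrullDim U.left := by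
    have h1 : topologicalKrullDim U.left = topologicalKrullDim R.left := by
      rw [← GrothLib.GrpSchField.topologicalKrullDim_component R hcomp]
      exact IsHomeomorph.topologicalKrullDim_eq _ c.left.isClosedEmbedding.isEmbedding.toHomeomorph.isHomeomorph
    haveI : IsFinite (r ≫ b).left := by rw [Over.comp_left]; infer_instance
    haveI : Surjective (r ≫ b).left := by rw [Over.comp_left]; infer_instance
    rw [h1]
    exact GrothLib.AlgSp.topologicalKrullDim_le_of_isIntegralHom_surjective (r ≫ b).left
  -- solvability
  haveI : IsFinite (c ≫ r ≫ b).left := by rw [Over.comp_left, Over.comp_left]; infer_instance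
  have hsol : Red.IsSolvableGrp U := by
    haveI : QuasiCompact U.hom := (quasiCompact_iff_compactSpace U.hom).mpr inferInstance
    haveI : IsSeparated U.hom := GrothLib.GrpSchField.isSeparated U
    refine GrothLib.Flag27.isSolvableGrp_of_points ?_
    obtain ⟨n, hn⟩ := (GrothLib.Flag27.isSolvable_points hs).solvable
    refine isSolvable_of_finite U n ?_
    let ψ := GrothLib.Flag27.ptsHom (c ≫ r ≫ b)
    have hker : ((derivedSeries (Over.mk (𝟙 (Spec (CommRingCat.of K))) ⟶ U) n : Subgroup _) :
        Set (Over.mk (𝟙 (Spec (CommRingCat.of K))) ⟶ U)) ⊆ {x | ψ x = 1} := fun x hx => by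
      have h1 := map_derivedSeries_le_derivedSeries ψ n (Subgroup.mem_map_of_mem ψ hx)
      rw [hn] at h1
      exact h1
    refine Set.Finite.subset ?_ hker
    have hfib : ((c ≫ r ≫ b).left.base ⁻¹' {ptLoc (1 : Over.mk (𝟙 (Spec (CommRingCat.of K))) ⟶ V)}).Finite :=
      (c ≫ r ≫ b).left.finite_preimage_singleton _
    refine (hfib.preimage (ptLoc_injective (K := K) (H := U)).injOn).subset fun x hx => ?_
    show (c ≫ r ≫ b).left.base (ptLoc x) = _
    rw [← ptLoc_comp]
    exact congrArg ptLoc hx
  refine ⟨U, inferInstance, c ≫ r ≫ a, inferInstance, inferInstance, inferInstance, inferInstance, hsol, hdU,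
    fun hV => ?_⟩
  haveI := hV
  exact isAffine_of_isAffineHom (c ≫ r ≫ b).left

end GrothLib.IsogSub19
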